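import Cfsg.Agent.H51.Mult
import Cfsg.Agent.H52.Fi22Odd
import Cfsg.Agent.Lib.F2MatGroup
import Cfsg.Agent.S1696
set_option linter.all false

-- part: H52/Fibre
section
/-!
# Fibre products of perfect central extensions with coprime kernels

* `exists_fibre`: two perfect central extensions of `X` with kernels of coprime orders have a common perfect central
  extension whose kernel has order the product.
* `perfect_of_gens`: a central extension of a perfect group with kernel of odd order which is generated by involutions
  is perfect.
-/

set_option autoImplicit false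
set_option linter.style.haveILetI false

namespace Cfsg.Agent.H52.Fibre

open Cfsg.Agent.H51.Mult Subgroup

universe u v

section

variable {L₁ L₂ : Type u} {X : Type v} [Group L₁] [Group L₂] [Group X]

/-- The fibre product. -/
def fib (π₁ : L₁ →* X) (π₂ : L₂ →* X) : Subgroup (L₁ × L₂) :=
  (π₁.comp (MonoidHom.fst L₁ L₂)).eqLocus (π₂.comp (MonoidHom.snd L₁ L₂))

theorem mem_fib {π₁ : L₁ →* X} {π₂ : L₂ →* X} {p : L₁ × L₂} : p ∈ fib π₁ π₂ ↔ π₁ p.1 = π₂ p.2 := Iff.rfl

/-- The projection of the fibre product to the base. -/
def fibHom (π₁ : L₁ →* X) (π₂ : L₂ →* X) : fib π₁ π₂ →* X :=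
  (π₁.comp (MonoidHom.fst L₁ L₂)).comp (fib π₁ π₂).subtype

theorem fibHom_apply (π₁ : L₁ →* X) (π₂ : L₂ →* X) (p : fib π₁ π₂) : fibHom π₁ π₂ p = π₁ (p : L₁ × L₂).1 := rfl

/-- The kernel of the fibre product. -/
def kerFib (π₁ : L₁ →* X) (π₂ : L₂ →* X) : (fibHom π₁ π₂).ker ≃ π₁.ker × π₂.ker where
  toFun x := (⟨x.1.1.1, x.2⟩, ⟨x.1.1.2, by
    rw [MonoidHom.mem_ker]
    exact (mem_fib.1 x.1.2).symm.trans x.2⟩)
  invFun y := ⟨⟨(y.1.1, y.2.1), by
    rw [mem_fib]
    show π₁ y.1.1 = π₂ y.2.1
    rw [MonoidHom.mem_ker.1 y.1.2, MonoidHom.mem_ker.1 y.2.2]⟩, y.1.2⟩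
  left_inv _ := rfl
  right_inv _ := rfl

theorem fib_pce [Finite L₁] [Finite L₂] {π₁ : L₁ →* X} {π₂ : L₂ →* X} (h₁ : PCE π₁) (h₂ : PCE π₂)
    (hc : (Nat.card π₁.ker).Coprime (Nat.card π₂.ker)) : PCE (fibHom π₁ π₂) where
  surj x := by
    obtain ⟨a, ha⟩ := h₁.surj x
    obtain ⟨b, hb⟩ := h₂.surj x
    exact ⟨⟨(a, b), by rw [mem_fib]; exact ha.trans hb.symm⟩, ha⟩
  cen := by
    rintro ⟨⟨a, b⟩, hab⟩ hk
    have ha : π₁ a = 1 := hk
    have hb : π₂ b = 1 := by rw [← (show π₁ a = π₂ b from hab)]; exact ha
    rw [mem_center_iff]
    rintro ⟨⟨c, d⟩, hcd⟩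
    apply Subtype.ext
    exact Prod.ext (h₁.comm ha c).symm (h₂.comm hb d).symm
  perf := by
    set F := fib π₁ π₂ with hF
    let p₁ : F →* L₁ := (MonoidHom.fst L₁ L₂).comp F.subtype
    let p₂ : F →* L₂ := (MonoidHom.snd L₁ L₂).comp F.subtype
    have hs₁ : Function.Surjective p₁ := by
      intro a
      obtain ⟨b, hb⟩ := h₂.surj (π₁ a)
      exact ⟨⟨(a, b), hb.symm⟩, rfl⟩
    have hs₂ : Function.Surjective p₂ := by
      intro b
      obtain ⟨a, ha⟩ := h₁.surj (π₂ b)
      exact ⟨⟨(a, b), ha⟩, rfl⟩
    have hm₁ : (commutator F).map p₁ = ⊤ := by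
      rw [commutator_def, Subgroup.map_commutator, Subgroup.map_top_of_surjective p₁ hs₁, ← commutator_def, h₁.perf]
    have hm₂ : (commutator F).map p₂ = ⊤ := by
      rw [commutator_def, Subgroup.map_commutator, Subgroup.map_top_of_surjective p₂ hs₂, ← commutator_def, h₂.perf]
    rw [eq_top_iff]
    rintro x -
    -- powers of `x`
    have hx₁ : x ^ Nat.card π₁.ker ∈ commutator F := by
      have : p₂ x ∈ (commutator F).map p₂ := by rw [hm₂]; exact mem_top _
      obtain ⟨y, hy, hyx⟩ := this
      -- `x = y * k`, `k` in the kernel of `p₂`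
      have hk : p₂ (y⁻¹ * x) = 1 := by rw [map_mul, map_inv, hyx, inv_mul_cancel]
      obtain ⟨k, hk'⟩ : ∃ k, k = y⁻¹ * x := ⟨_, rfl⟩
      rw [← hk'] at hk
      have hxk : x = y * k := by rw [hk', mul_inv_cancel_left]
      have hk1 : π₁ (p₁ k) = 1 := by
        have h : π₁ (p₁ k) = π₂ (p₂ k) := mem_fib.1 k.2
        rw [h, hk, map_one]
      have hkn : k ^ Nat.card π₁.ker = 1 := by
        apply Subtype.ext
        refine Prod.ext ?_ ?_
        · have := pow_card_eq_one' (x := (⟨p₁ k, hk1⟩ : π₁.ker))
          have h2 : (p₁ k) ^ Nat.card π₁.ker = 1 := congrArg Subtype.val this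
          rw [← map_pow] at h2
          exact h2
        · have h2 : p₂ (k ^ Nat.card π₁.ker) = 1 := by rw [map_pow, hk, one_pow]
          exact h2
      have hcomm : Commute y k := by
        show y * k = k * y
        apply Subtype.ext
        refine Prod.ext ?_ ?_
        · exact (h₁.comm hk1 _).symm
        · have h2 : p₂ (y * k) = p₂ (k * y) := by rw [map_mul, map_mul, hk, one_mul, mul_one]
          exact h2
      rw [hxk, hcomm.mul_pow, hkn, mul_one]
      exact pow_mem hy _
    have hx₂ : x ^ Nat.card π₂.ker ∈ commutator F := by
      have : p₁ x ∈ (commutator F).map p₁ := by rw [hm₁]; exact mem_top _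
      obtain ⟨y, hy, hyx⟩ := this
      have hk : p₁ (y⁻¹ * x) = 1 := by rw [map_mul, map_inv, hyx, inv_mul_cancel]
      obtain ⟨k, hk'⟩ : ∃ k, k = y⁻¹ * x := ⟨_, rfl⟩
      rw [← hk'] at hk
      have hxk : x = y * k := by rw [hk', mul_inv_cancel_left]
      have hk1 : π₂ (p₂ k) = 1 := by
        have h : π₁ (p₁ k) = π₂ (p₂ k) := mem_fib.1 k.2
        rw [← h, hk, map_one]
      have hkn : k ^ Nat.card π₂.ker = 1 := by
        apply Subtype.ext
        refine Prod.ext ?_ ?_
        · have h2 : p₁ (k ^ Nat.card π₂.ker) = 1 := by rw [map_pow, hk, one_pow]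
          exact h2
        · have := pow_card_eq_one' (x := (⟨p₂ k, hk1⟩ : π₂.ker))
          have h2 : (p₂ k) ^ Nat.card π₂.ker = 1 := congrArg Subtype.val this
          rw [← map_pow] at h2
          exact h2
      have hcomm : Commute y k := by
        show y * k = k * y
        apply Subtype.ext
        refine Prod.ext ?_ ?_
        · have h2 : p₁ (y * k) = p₁ (k * y) := by rw [map_mul, map_mul, hk, one_mul, mul_one]
          exact h2
        · exact (h₂.comm hk1 _).symm
      rw [hxk, hcomm.mul_pow, hkn, mul_one]
      exact pow_mem hy _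
    have h1 := Nat.gcd_eq_gcd_ab (Nat.card π₁.ker) (Nat.card π₂.ker)
    rw [hc.gcd_eq_one] at h1
    have h2 : x = (x ^ Nat.card π₁.ker) ^ (Nat.gcdA (Nat.card π₁.ker) (Nat.card π₂.ker)) *
        (x ^ Nat.card π₂.ker) ^ (Nat.gcdB (Nat.card π₁.ker) (Nat.card π₂.ker)) := by
      rw [← zpow_natCast, ← zpow_natCast, ← zpow_mul, ← zpow_mul, ← zpow_add, ← h1, Nat.cast_one, zpow_one]
    rw [h2]
    exact mul_mem (zpow_mem hx₁ _) (zpow_mem hx₂ _)

/-- **Two perfect central extensions with kernels of coprime orders.** -/
theorem exists_fibre {X : Type u} [Group X] {m n : ℕ} (hmn : m.Coprime n)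
    (h₁ : ∃ (L : Type u) (_ : Group L) (_ : Finite L) (π : L →* X), PCE π ∧ Nat.card π.ker = m)
    (h₂ : ∃ (L : Type u) (_ : Group L) (_ : Finite L) (π : L →* X), PCE π ∧ Nat.card π.ker = n) :
    ∃ (L : Type u) (_ : Group L) (_ : Finite L) (π : L →* X), PCE π ∧ Nat.card π.ker = m * n := by
  obtain ⟨L₁, _, _, π₁, p₁, c₁⟩ := h₁
  obtain ⟨L₂, _, _, π₂, p₂, c₂⟩ := h₂
  refine ⟨fib π₁ π₂, inferInstance, inferInstance, fibHom π₁ π₂, fib_pce p₁ p₂ (by rw [c₁, c₂]; exact hmn), ?_⟩
  rw [Nat.card_congr (kerFib π₁ π₂), Nat.card_prod, c₁, c₂]

end

/-- A central extension of a perfect group with kernel of odd exponent, generated by involutions, is perfect. -/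
theorem perfect_of_gens {L : Type*} {X : Type*} [Group L] [Group X] (π : L →* X) (hs : Function.Surjective π)
    (hcen : π.ker ≤ center L) (n : ℕ) (hodd : ∀ k, π k = 1 → k ^ (2 * n + 1) = 1) (hX : commutator X = ⊤)
    {S : Set L} (hS : closure S = ⊤) (h2 : ∀ x ∈ S, x * x = 1) : commutator L = ⊤ := by
  rw [eq_top_iff, ← hS, closure_le]
  intro x hx
  have h1 : π x ∈ (commutator L).map π := by
    rw [commutator_def, Subgroup.map_commutator, Subgroup.map_top_of_surjective π hs, ← commutator_def, hX]
    exact mem_top _
  obtain ⟨c, hc, hcx⟩ := h1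
  obtain ⟨k, hk⟩ : ∃ k, k = c⁻¹ * x := ⟨_, rfl⟩
  have hk1 : π k = 1 := by rw [hk, map_mul, map_inv, hcx, inv_mul_cancel]
  have hxk : x = c * k := by rw [hk, mul_inv_cancel_left]
  have hkc : Commute c k := mem_center_iff.1 (hcen (MonoidHom.mem_ker.2 hk1)) c
  have e1 : k ^ 2 ∈ commutator L := by
    have e2 : c ^ 2 * k ^ 2 = 1 := by rw [← hkc.mul_pow, ← hxk, pow_two, h2 x hx]
    have e3 : k ^ 2 = (c ^ 2)⁻¹ := eq_inv_of_mul_eq_one_right e2
    rw [e3]
    exact inv_mem (pow_mem hc 2)
  have e4 : k = (k ^ 2) ^ (n + 1) := by
    have := hodd k hk1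
    rw [← pow_mul, show 2 * (n + 1) = (2 * n + 1) + 1 by ring, pow_succ, this, one_mul]
  have e5 : k ∈ commutator L := by rw [e4]; exact pow_mem e1 _
  rw [hxk]
  exact mul_mem hc e5

end Cfsg.Agent.H52.Fibre
end

-- part: H52/ThreeFi22
section
/-!
# The triple cover `3.Fi22` inside `GL (54, 2)`

Nine involutions of `GL (27, 4) ≤ GL (54, 2)` satisfying the Coxeter relations of `Y₃₃₂` and the two `E₇` relations, for
which the tenth power of the spider is a scalar `≠ 1`.  The nodes `b, …, i` without `g` are the monomial matrices of the
affine Weyl group of type `E₆` on the 27 minuscule weights (translations act through the cube roots of unity), the node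
`a` is `1 +` the adjacency matrix of the Schläfli graph, `g` is conjugate to `a` by a diagram automorphism.
-/

set_option autoImplicit false

namespace Cfsg.Agent.H52.ThreeFi22

open Cfsg Cfsg.Agent.Lib Cfsg.Agent.Lib.F2MatGroup Cfsg.Agent.KFacts.MulEven.Cox9
open Cfsg.Agent.KFacts.MulEven.Lift9 Cfsg.Agent.KFacts.MulEven.Fi22 Cfsg.Agent.H51.Mult Cfsg.Agent.H52.OddLift
open Cfsg.Agent.H52.Fi22Odd

/-- the matrix of the node `a` -/
def mA : ℕ := 0xaaaaaa02aa00015555540554000aaaaa8aa00a0015555515401400aaaa22a8a00a015554455140140aa82aaa08222815505554104450aaa88aa08888815551154111110a8a82a8a2888215150551451104a8aa802aa888095155005551101aa0aa02aa222095415405544441a28a88228aa0894515104515411aa222a8a2222215444551444444a2a0aa820aa0a145415504154148aa02a80aa0aa115405501541542aa02aa800aaa055405550015542a8a80a880aa885515015101551282a20aa20aa285054415441545a02aa80a2aa02940555014554058a8a8220aa0a891515044154151882a220aaa0a29105444155414580a88a02aa88a901511405551158202aa02aa22a9040554055445520a888aa08a8a841511154115152202a8aa02a2a8440551540545508a802a8a88aa811500551511550a0222a8a22aa8140445514455502808aa08aaaa8050115411555500202a8a2aaaa80040551455555000a802aaaaaa80015005555555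

/-- the matrix of the node `b` -/
def mB : ℕ := 0x10000000000000c000000000000010000000000000c000000000000010000000000000c002000000000000040000000000000000000000040000000000003000000000000010000000000000c000000000000040000000000003000200000000000004000000000000080000000000001000000000000020000000000000400000000000008000000000000100000000000002000000000000040000000000000800000000000010000000000000200000000000004000000000000080000000000001000000000000020000000000000400000000000008000000000000100000000000002000000000000040000000000000800000000000010000c000000000000200000000000000000000000800000000000010003000000000000080000000000000000000000080000000000001000c000000000000200000000000000c000000000000200000000000003000000000000080000000000000c00000000000020000000000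

/-- the matrix of the node `c` -/
def mC : ℕ := 0x800000000000010000000000000200000000000004000000000000080000000000001000000000000008000000000000100000000000020000000000000400000000000000020000000000000400000000000200000000000004000000000000800000000000010000000000000080000000000001000000000002000000000000040000000000000008000000000000100000000000002000000000000040000000000000800000000000010000000000000200000000000004000000000000080000000000001000000000000020000000000000400000000000008000000000000100000000000002000000000000040000000000000200000000000004000000000000800000000000010000000000000020000000000000400000000000080000000000001000000000000002000000000000040000000000008000000000000100000000000000800000000000010000000000000200000000000004000000000000080000000000001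

/-- the matrix of the node `d` -/
def mD : ℕ := 0x800000000000010000000000000200000000000004000000000000008000000000000100000000000020000000000000400000000000080000000000001000000000000002000000000000040000000000000800000000000010000000000000080000000000001000000000000200000000000004000000000000008000000000000100000000000020000000000000400000000000002000000000000040000000000000800000000000010000000000000200000000000004000000000000000080000000000001000000000020000000000000400000000000008000000000000100000000000000800000000000010000000000002000000000000040000000000000200000000000004000000000080000000000001000000000000000020000000000000400000000000008000000000000100000000000000800000000000010000000000002000000000000040000000000000200000000000004000000000000080000000000001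

/-- the matrix of the node `e` -/
def mE : ℕ := 0x800000000000010000000000000200000000000004000000000000080000000000001000000000000000020000000000000400000000002000000000000040000000000008000000000000100000000000000800000000000010000000000000200000000000004000000000000000020000000000000400000020000000000000400000000000000008000000000000100000000000002000000000000040000000000000800000000000010000000000000080000000000001000000000000200000000000004000000000080000000000001000000000000000002000000000000040000000000008000000000000100000000000000800000000000010000000000000200000000000004000000000000080000000000001000000000000020000000000000400000000000008000000000000100000000000002000000000000040000000000000200000000000004000000000000800000000000010000000000000080000000000001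

/-- the matrix of the node `f` -/
def mF : ℕ := 0x800000000000010000000000000200000000000004000000000000080000000000001000000000000020000000000000400000000000008000000000000100000000000000800000000000010000000000002000000000000040000000000000020000000000000400000000000008000000000000100000000000200000000000004000000000000080000000000001000000000000000008000000000000100000000000200000000000004000000000000800000000000010000000000000080000000000001000000000000020000000000000400000000002000000000000040000000000000002000000000000040000000000000800000000000010000000000000200000000000004000000000000080000000000001000000000000020000000000000400000000000008000000000000100000000000002000000000000040000000000000800000000000010000000000000080000000000001000000000000200000000000004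

/-- the matrix of the node `g` -/
def mG : ℕ := 0xaaa56a01550001557f540ffc000aaa56895005001557f51fc03c00aaa52294500501557c45f3c03c0aa816a90411141550f55c30ccf0aaa44a90444441557315c333330a8a42a851444115170553cf330cfcfa802aa88806a295005551103ff0ab02aa22206a815805544443f3ca8c228aa0868a15204515413aa212a85111111544c553cccccca2a06a810550514543550c3fc3c8aa02a8055055115405503fc3fc2aa02a94005550554055f003ffc3fca80e880aa84aa150251015533c3a30ea20aa24a094825441547f03abc0a2aa0268095a01455407cfca8320aa0a862a15084154153cc3a330aaa0a262094881554147c0f88f02aa88a60291280555117c302bf02aa22a60805a8055445730f88cea08a8a482912254115173302bcea02a2a48805a254054570cf803e8a88aa422900a51511570f0233e8a22aa428048a514455703c08fe08aaaa40a012a411555700303fca2aaaa40080aa1455557000fc03ffffff8002a00aaaaaa9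

/-- the matrix of the node `h` -/
def mH : ℕ := 0x800000000000010000000000000080000000000001000000000000200000000000004000000000000020000000000000400000000000008000000000000100000000000002000000000000040000000000000800000000000010000000000000200000000000004000000000000000008000000000000100000000020000000000000400000000000002000000000000040000000000008000000000000100000000000000800000000000010000000000000200000000000004000000000000080000000000001000000000000002000000000000040000000080000000000001000000000000000020000000000000400000000000000800000000000010000000000000200000000000004000000000000008000000000000100000000000002000000000000040000000000080000000000001000000000000020000000000000400000000000000800000000000010000000000000200000000000004000000000000080000000000001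

/-- the matrix of the node `i` -/
def mI : ℕ := 0x200000000000004000000000000800000000000010000000000000080000000000001000000000000020000000000000400000000000008000000000000100000000000002000000000000040000000000000800000000000010000000000000200000000000004000000000000080000000000001000000000000020000000000000400000000000008000000000000100000000000000800000000000010000000000002000000000000040000000000000008000000000000100000000000002000000000000040000000000020000000000000400000000000200000000000004000000000000080000000000001000000000000000080000000000001000000000000020000000000000400000000000800000000000010000000000000200000000000004000000000000008000000000000100000000000002000000000000040000000000000800000000000010000000000000200000000000004000000000000080000000000001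

/-- squares are trivial -/
def isq (A : ℕ) : Bool := Nat.beq (F2Mat.mul 54 A A) (F2Mat.one 54)

theorem sA : isq mA = true := by decide +kernel
theorem sB : isq mB = true := by decide +kernel
theorem sC : isq mC = true := by decide +kernel
theorem sD : isq mD = true := by decide +kernel
theorem sE : isq mE = true := by decide +kernel
theorem sF : isq mF = true := by decide +kernel
theorem sG : isq mG = true := by decide +kernel
theorem sH : isq mH = true := by decide +kernel
theorem sI : isq mI = true := by decide +kernel

/-- an involution from its code -/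
def inv' (A : ℕ) (h : isq A = true) : GL (Fin 54) (ZMod 2) := unit 54 A A h h

theorem codes_inv' (A : ℕ) (h : isq A = true) : Codes 54 (inv' A h) A := codes_unit 54 A A h h

/-- the nine involutions -/
def u : Fin 9 → GL (Fin 54) (ZMod 2) :=
  ![inv' mA sA, inv' mB sB, inv' mC sC, inv' mD sD, inv' mE sE, inv' mF sF, inv' mG sG, inv' mH sH, inv' mI sI]

theorem u_sq : ∀ i, u i * u i = 1 := by
  have key : ∀ (A : ℕ) (h : isq A = true), inv' A h * inv' A h = 1 := by
    intro A h
    exact ((codes_unit 54 A A h h).mul (codes_unit 54 A A h h)).eq_one h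
  intro i
  fin_cases i
  exacts [key mA sA, key mB sB, key mC sC, key mD sD, key mE sE, key mF sF, key mG sG, key mH sH, key mI sI]

/-- their list -/
def LG : List (GL (Fin 54) (ZMod 2)) := [u 0, u 1, u 2, u 3, u 4, u 5, u 6, u 7, u 8]

/-- the list of the codes -/
def L0 : List ℕ := [mA, mB, mC, mD, mE, mF, mG, mH, mI]

theorem codesL : List.Forall₂ (Codes 54) LG L0 := by
  exact .cons (codes_inv' mA sA) (.cons (codes_inv' mB sB) (.cons (codes_inv' mC sC)
    (.cons (codes_inv' mD sD) (.cons (codes_inv' mE sE) (.cons (codes_inv' mF sF)
    (.cons (codes_inv' mG sG) (.cons (codes_inv' mH sH) (.cons (codes_inv' mI sI)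
    .nil))))))))

theorem getG_LG : ∀ i : Fin 9, getG LG i.val = u i := by
  intro i; fin_cases i <;> rfl

theorem evG_LG (w : List (Fin 9)) : evG LG (w.map (·.val)) = ev u w := by
  induction w with
  | nil => rfl
  | cons i w ih => rw [List.map_cons, evG_cons, ev_cons, ih, getG_LG]

/-- the Coxeter relations as equalities of words -/
def rels : List (List (Fin 9) × List (Fin 9)) :=
  (List.finRange 9).flatMap fun i => (List.finRange 9).flatMap fun j =>
    if lab i j = 2 then [([i, j], [j, i])] else if lab i j = 3 then [([i, j, i], [j, i, j])] else []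

/-- the words as lists of numbers -/
def relsN : List (List ℕ × List ℕ) := rels.map fun p => (p.1.map (·.val), p.2.map (·.val))

theorem chkR : check 54 L0 [] relsN [] = true := by decide +kernel

theorem rel_of_mem {v w : List (Fin 9)} (h : (v, w) ∈ rels) : ev u v = ev u w := by
  have h1 := (check_sound (by norm_num) codesL chkR).1 (v.map (·.val), w.map (·.val))
    (List.mem_map.2 ⟨(v, w), h, rfl⟩)
  rw [runG_nil] at h1
  rw [evG_LG, evG_LG] at h1
  exact h1

theorem mem2 : ∀ i j : Fin 9, lab i j = 2 → ([i, j], [j, i]) ∈ rels := by decide +kernel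
theorem mem3 : ∀ i j : Fin 9, lab i j = 3 → ([i, j, i], [j, i, j]) ∈ rels := by decide +kernel

theorem u_comm {i j : Fin 9} (h : lab i j = 2) : u i * u j = u j * u i := by
  have := rel_of_mem (mem2 i j h)
  simpa only [ev_cons, ev_nil, mul_one] using this

theorem u_braid {i j : Fin 9} (h : lab i j = 3) : u i * u j * u i = u j * u i * u j := by
  have := rel_of_mem (mem3 i j h)
  simpa only [ev_cons, ev_nil, mul_one, mul_assoc] using this

theorem liftable : M9.IsLiftable u :=
  liftable_of u_sq (fun _ _ h => u_comm h) (fun _ _ h => u_braid h)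

theorem evG_three {G : Type*} [Group G] (x : G) (L : List G) : evG (x :: L) [0, 0, 0] = x ^ 3 := by
  show x * (x * (x * 1)) = x ^ 3
  simp only [pow_succ, pow_zero, one_mul, mul_one, mul_assoc]

theorem evG_two {G : Type*} [Group G] (x : G) (L : List G) : evG (x :: L) [0, 0] = x ^ 2 := by
  show x * (x * 1) = x ^ 2
  simp only [pow_succ, pow_zero, one_mul, mul_one]

theorem evG_five {G : Type*} [Group G] (x : G) (L : List G) : evG (x :: L) [0, 0, 0, 0, 0] = x ^ 5 := by
  show x * (x * (x * (x * (x * 1)))) = x ^ 5
  simp only [pow_succ, pow_zero, one_mul, mul_one, mul_assoc]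

theorem run_nine {G : Type*} [Group G] (w : List ℕ) (L : List G) :
    evG (runG [w, [0, 0, 0], [0, 0, 0]] L) [0] = evG L w ^ 9 := by
  rw [runG_cons, runG_cons, runG_cons, runG_nil]
  generalize evG L w = x
  rw [evG_three, evG_three, ← pow_mul]
  show x ^ (3 * 3) * 1 = x ^ 9
  rw [mul_one]

/-- the two words of type `E₇` -/
def wsE : List (List ℕ) := [[0, 1, 2, 3, 4, 5, 7], [0, 0, 0], [0, 0, 0]]
def wsE' : List (List ℕ) := [[1, 2, 3, 4, 5, 6, 7], [0, 0, 0], [0, 0, 0]]

theorem chkE : check 54 L0 wsE [([0], [])] [] = true := by decide +kernel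
theorem chkE' : check 54 L0 wsE' [([0], [])] [] = true := by decide +kernel

theorem eA : ev u WA ^ 9 = 1 := by
  have h := (check_sound (by norm_num) codesL chkE).1 ([0], []) (List.mem_singleton.2 rfl)
  have h' : evG (runG wsE LG) [0] = 1 := h
  have e0 : evG LG [0, 1, 2, 3, 4, 5, 7] = ev u WA := evG_LG WA
  rw [← e0, ← run_nine]
  exact h'

theorem eB : ev u WB ^ 9 = 1 := by
  have h := (check_sound (by norm_num) codesL chkE').1 ([0], []) (List.mem_singleton.2 rfl)
  have h' : evG (runG wsE' LG) [0] = 1 := h
  have e0 : evG LG [1, 2, 3, 4, 5, 6, 7] = ev u WB := evG_LG WB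
  rw [← e0, ← run_nine]
  exact h'

/-- the spider -/
def wsS : List (List ℕ) := [[3, 2, 1, 3, 4, 5, 3, 7, 8], [0, 0, 0, 0, 0], [0, 0]]

theorem chkS : check 54 L0 wsS [([0, 3], [3, 0]), ([0, 4], [4, 0]), ([0, 5], [5, 0]), ([0, 6], [6, 0]),
    ([0, 7], [7, 0]), ([0, 8], [8, 0]), ([0, 9], [9, 0]), ([0, 10], [10, 0]), ([0, 11], [11, 0])]
    [([0], [])] = true := by decide +kernel

/-- the central element -/
def s : GL (Fin 54) (ZMod 2) := ev u spider ^ 10

theorem runS : runG wsS LG = [s, ev u spider ^ 5, ev u spider, u 0, u 1, u 2, u 3, u 4, u 5, u 6, u 7, u 8] := by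
  have e0 : evG LG [3, 2, 1, 3, 4, 5, 3, 7, 8] = ev u spider := evG_LG spider
  rw [wsS, runG_cons, runG_cons, runG_cons, runG_nil, e0, evG_five, evG_two, ← pow_mul]
  rfl

theorem s_ne : s ≠ 1 := by
  have h := (check_sound (by norm_num) codesL chkS).2 ([0], []) (List.mem_singleton.2 rfl)
  rw [runS] at h
  intro hs
  apply h
  show s * 1 = 1
  rw [mul_one, hs]

theorem s_comm (i : Fin 9) : s * u i = u i * s := by
  have e := runS
  have key : ∀ k : ℕ, ([0, k], [k, 0]) ∈ [([0, 3], [3, 0]), ([0, 4], [4, 0]), ([0, 5], [5, 0]), ([0, 6], [6, 0]),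
    ([0, 7], [7, 0]), ([0, 8], [8, 0]), ([0, 9], [9, 0]), ([0, 10], [10, 0]), ([0, 11], [11, 0])] →
    s * getG (runG wsS LG) k = getG (runG wsS LG) k * s := by
    intro k hk
    have h := (check_sound (by norm_num) codesL chkS).1 _ hk
    have e0 : getG (runG wsS LG) 0 = s := by rw [e]; rfl
    simp only [evG_cons, evG_nil, mul_one, e0] at h
    exact h
  rw [e] at key
  fin_cases i
  · exact key 3 (by decide)
  · exact key 4 (by decide)
  · exact key 5 (by decide)
  · exact key 6 (by decide)
  · exact key 7 (by decide)
  · exact key 8 (by decide)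
  · exact key 9 (by decide)
  · exact key 10 (by decide)
  · exact key 11 (by decide)

end Cfsg.Agent.H52.ThreeFi22
end

-- part: H52/ThreeFi22Cover
section
/-!
# The perfect central extension `3.Fi22`
-/

set_option autoImplicit false
set_option linter.style.haveILetI false

namespace Cfsg.Agent.H52.ThreeFi22Cover

open Cfsg Cfsg.Agent.KFacts.MulEven.Cox9
open Cfsg.Agent.KFacts.MulEven.Lift9 Cfsg.Agent.KFacts.MulEven.Fi22 Cfsg.Agent.H51.Mult Cfsg.Agent.H52.OddLift
open Cfsg.Agent.H52.Fi22Odd Cfsg.Agent.H52.Fibre Subgroup
open scoped commutatorElement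

/-- A simple group whose order is not a prime is perfect. -/
theorem perfect_of_simple {G : Type*} [Group G] [Finite G] [IsSimpleGroup G] (h : ¬ (Nat.card G).Prime) :
    commutator G = ⊤ := by
  rcases IsSimpleGroup.eq_bot_or_eq_top_of_normal (commutator G) inferInstance with h1 | h1
  · exfalso
    apply h
    have hc : ∀ a b : G, a * b = b * a := by
      intro a b
      have h2 : ⁅a, b⁆ ∈ commutator G := commutator_mem_commutator (mem_top a) (mem_top b)
      rw [h1, mem_bot, commutatorElement_eq_one_iff_mul_comm] at h2
      exact h2
    letI : CommGroup G := { (inferInstance : Group G) with mul_comm := hc }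
    exact IsSimpleGroup.prime_card (α := G)
  · exact h1

theorem perfect_fi22 : commutator Spor.Fi22 = ⊤ := by
  obtain ⟨h1, h2⟩ := Cfsg.Agent.S1696.result
  haveI := h1
  haveI : Finite Spor.Fi22 := Nat.finite_of_card_ne_zero (by rw [h2]; norm_num)
  apply perfect_of_simple
  rw [h2]
  norm_num

/-- **The general construction.** -/
theorem exists_pce {G₀ : Type} [Group G₀] [Finite G₀] {u : Fin 9 → G₀} (hl : M9.IsLiftable u)
    (hA : ev u WA ^ 9 = 1) (hB : ev u WB ^ 9 = 1) (hs : ∀ i, ev u spider ^ 10 * u i = u i * ev u spider ^ 10)
    (hs1 : ev u spider ^ 10 ≠ 1) :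
    ∃ (L : Type) (_ : Group L) (_ : Finite L) (π : L →* Spor.Fi22), PCE π ∧ Nat.card π.ker = 3 := by
  haveI hsimple : IsSimpleGroup Spor.Fi22 := Cfsg.Agent.S1696.result.1
  set H : Subgroup G₀ := closure (Set.range u) with hH
  let v : Fin 9 → H := fun i => ⟨u i, subset_closure ⟨i, rfl⟩⟩
  have hv : ∀ w, ((ev v w : H) : G₀) = ev u w := fun w => ev_map H.subtype v w
  have hvS : closure (Set.range v) = ⊤ := by
    have h1 := Subgroup.closure_closure_coe_preimage (k := Set.range u)
    have h2 : Set.range v = ((↑) : H → G₀) ⁻¹' (Set.range u) := by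
      ext x
      constructor
      · rintro ⟨i, rfl⟩
        exact ⟨i, rfl⟩
      · rintro ⟨i, hi⟩
        exact ⟨i, Subtype.ext hi⟩
    rw [h2]
    exact h1
  have hvl : M9.IsLiftable v := by
    intro i j
    apply Subtype.ext
    exact hl i j
  set s : H := ev v spider ^ 10 with hsdef
  have hsv : ∀ i, s * v i = v i * s := by
    intro i
    apply Subtype.ext
    show ((s : H) : G₀) * u i = u i * ((s : H) : G₀)
    have : ((s : H) : G₀) = ev u spider ^ 10 := by rw [hsdef, Subgroup.coe_pow, hv]
    rw [this, hs]
  have hcen : ∀ g : H, s * g = g * s := by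
    intro g
    have hg : g ∈ closure (Set.range v) := by rw [hvS]; exact mem_top g
    induction hg using Subgroup.closure_induction with
    | mem x hx =>
      obtain ⟨i, rfl⟩ := hx
      exact hsv i
    | one => rw [mul_one, one_mul]
    | mul x y _ _ hx hy => rw [← mul_assoc, hx, mul_assoc, hy, mul_assoc]
    | inv x _ hx => rw [eq_inv_mul_iff_mul_eq, ← mul_assoc, ← hx, mul_inv_cancel_right]
  have hs3 : s ^ 3 = 1 := spider_cube hvl hcen
  have hsne : s ≠ 1 := by
    intro h
    apply hs1
    rw [← hv, ← Subgroup.coe_pow, ← hsdef, h, Subgroup.coe_one]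
  have hord : orderOf s = 3 := by
    haveI : Fact (Nat.Prime 3) := ⟨Nat.prime_three⟩
    exact orderOf_eq_prime hs3 hsne
  set K : Subgroup H := zpowers s with hK
  have hKc : K ≤ center H := by
    rw [hK, zpowers_le, mem_center_iff]
    exact fun g => (hcen g).symm
  haveI : K.Normal := normal_of_le_center hKc
  have hK3 : ∀ k ∈ K, k ^ 3 = 1 := by
    intro k hk
    obtain ⟨n, rfl⟩ := mem_zpowers_iff.1 hk
    rw [← zpow_natCast, ← zpow_mul, mul_comm, zpow_mul, zpow_natCast, hs3, one_zpow]
  let q : H →* H ⧸ K := QuotientGroup.mk' K
  have hq1 : ∀ x, q x = 1 ↔ x ∈ K := fun x => QuotientGroup.eq_one_iff x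
  have hR : FRels (fun i => q (v i)) 1 := by
    have e1 : ∀ w, ev v w ^ 9 = 1 ↔ ev u w ^ 9 = 1 := by
      intro w
      rw [← hv, ← Subgroup.coe_pow]
      exact ⟨fun h => by rw [h, Subgroup.coe_one], fun h => Subtype.ext h⟩
    refine ⟨fun i j => ?_, ?_, ?_, ?_⟩
    · show (q (v i) * q (v j)) ^ _ = 1
      rw [← map_mul, ← map_pow, hvl i j, map_one]
    · rw [← ev_map, ← map_pow, hq1]
      exact mem_zpowers s
    · rw [← ev_map, ← map_pow, (e1 WA).2 hA, map_one]
    · rw [← ev_map, ← map_pow, (e1 WB).2 hB, map_one]
  obtain ⟨φ, hφ⟩ := hR.exists_hom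
  have hφs : Function.Surjective φ := by
    rw [← MonoidHom.range_eq_top, eq_top_iff]
    have h1 : (⊤ : Subgroup (H ⧸ K)) = (closure (Set.range v)).map q := by
      rw [hvS, Subgroup.map_top_of_surjective q (QuotientGroup.mk'_surjective K)]
    rw [h1, MonoidHom.map_closure, closure_le]
    rintro _ ⟨_, ⟨i, rfl⟩, rfl⟩
    exact ⟨e0 i, hφ i⟩
  have hφi : Function.Injective φ := by
    rw [← MonoidHom.ker_eq_bot_iff]
    rcases IsSimpleGroup.eq_bot_or_eq_top_of_normal φ.ker inferInstance with h | h
    · exact h
    · exfalso
      have h1 : ∀ i, v i = 1 := by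
        intro i
        have h2 : e0 i ∈ φ.ker := by rw [h]; exact mem_top _
        rw [MonoidHom.mem_ker, hφ] at h2
        have h3 := hK3 _ ((hq1 _).1 h2)
        have h4 : v i * v i = 1 := sq hvl i
        rw [pow_succ, pow_two, h4, one_mul] at h3
        exact h3
      apply hsne
      rw [hsdef]
      have h2 : v = fun _ => 1 := funext h1
      have h3 : ∀ w : List (Fin 9), ev (fun _ : Fin 9 => (1 : H)) w = 1 := by
        intro w
        induction w with
        | nil => rfl
        | cons i w ih => rw [ev_cons, ih, mul_one]
      rw [h2, h3, one_pow]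
  let e : Spor.Fi22 ≃* H ⧸ K := MulEquiv.ofBijective φ ⟨hφi, hφs⟩
  let π : H →* Spor.Fi22 := e.symm.toMonoidHom.comp q
  have hker : π.ker = K := by
    ext x
    rw [MonoidHom.mem_ker, ← hq1]
    show e.symm (q x) = 1 ↔ q x = 1
    exact map_eq_one_iff e.symm e.symm.injective
  have hsurj : Function.Surjective π := e.symm.surjective.comp (QuotientGroup.mk'_surjective K)
  refine ⟨H, inferInstance, inferInstance, π, ⟨hsurj, by rw [hker]; exact hKc, ?_⟩, ?_⟩
  · refine perfect_of_gens π hsurj (by rw [hker]; exact hKc) 1 ?_ perfect_fi22 hvS ?_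
    · intro k hk
      have : k ∈ K := by rw [← hker]; exact hk
      exact hK3 k this
    · rintro _ ⟨i, rfl⟩
      exact sq hvl i
  · rw [hker, hK, Nat.card_zpowers, hord]

/-- **The triple cover of `Fi22`.** -/
theorem exists_three : ∃ (L : Type) (_ : Group L) (_ : Finite L) (π : L →* Spor.Fi22), PCE π ∧ Nat.card π.ker = 3 :=
  exists_pce ThreeFi22.liftable ThreeFi22.eA ThreeFi22.eB ThreeFi22.s_comm ThreeFi22.s_ne

end Cfsg.Agent.H52.ThreeFi22Cover
end
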