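import Mathlib
set_option linter.all false

/-!
# Finite simple groups of non-prime order are perfect
-/

set_option autoImplicit false

namespace Cfsg.Agent.H52.SimplePerfect

open Subgroup
open scoped commutatorElement

/-- A simple group whose order is not a prime is perfect. -/
theorem perfect_of_simple {G : Type*} [Group G] [Finite G] [IsSimpleGroup G] (h : ¬ (Nat.card G).Prime) :
    commutator G = ⊤ := by
  rcases IsSimpleGroup.eq_bot_or_eq_top_of_normal (commutator G) inferInstance with h1 | h1
  · exfalso
    apply h
    have hc : ∀ a b : G, a * b = b * a := by
      intro a b
      have h2 : ⁅a, b⁆ ∈ commutator G := commutator_mem_commutator (mem_top a) (mem_top b)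
      rw [h1, mem_bot, commutatorElement_eq_one_iff_mul_comm] at h2
      exact h2
    letI : CommGroup G := { (inferInstance : Group G) with mul_comm := hc }
    exact IsSimpleGroup.prime_card (α := G)
  · exact h1

end Cfsg.Agent.H52.SimplePerfect
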