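import Cfsg.Agent.H52.FourTool
import Cfsg.Agent.TypeM.FactsMcL
import Cfsg.Agent.H996.AllSplit_m3
import Cfsg.Agent.S0256
import Cfsg.Agent.Prune
set_option linter.all false
prune_inst 0x7f00000000000000000000000000000000000000000000000000000000000000000000000000000000000000000000000000000000000000000000000000000000000000000000000000000000000000003fffffffffffffffffffffffffffbeffbdffffffff
open scoped Cfsg.Agent.FastGrp

/-!
# `Loc` for `McL`
-/

set_option autoImplicit false

namespace Cfsg.Agent.H52.FourMcL

open Cfsg Subgroup Equiv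
open Cfsg.Agent.H652.Four
open Cfsg.Agent.H52.FourTool

universe u

theorem hasSplit_alt8 : FixBN.HasSplit 2 (alternatingGroup (Fin 8)) := by
  have : Fact (Nat.Prime 2) := ⟨Nat.prime_two⟩
  obtain ⟨e⟩ := Cfsg.Agent.S0256.result (F := ZMod 2) (by decide)
  have hs : IsSimpleGroup (alternatingGroup (Fin 8)) :=
    alternatingGroup.isSimpleGroup (by rw [Nat.card_eq_fintype_card, Fintype.card_fin]; norm_num)
  refine H996.AllSplit.hasSplit_of_lie Nat.prime_two (Or.inl ?_)
  exact ⟨ZMod 2, inferInstance, inferInstance, inferInstance, 4, by norm_num, by norm_num, ⟨e.symm⟩⟩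

theorem card_alt8 : Nat.card (alternatingGroup (Fin 8)) = 20160 := by
  rw [nat_card_alternatingGroup, Nat.card_eq_fintype_card, Fintype.card_fin]
  rfl

theorem cycleType_of_order_five {y : alternatingGroup (Fin 8)} (hy : orderOf y = 5) :
    (y : Perm (Fin 8)).cycleType = {5} := by
  have h5 : Nat.Prime 5 := by norm_num
  have ho : orderOf (y : Perm (Fin 8)) = 5 := by rw [Subgroup.orderOf_coe, hy]
  obtain ⟨n, hn⟩ := Perm.cycleType_prime_order (σ := (y : Perm (Fin 8))) (by rw [ho]; exact h5)
  rw [ho] at hn
  have hs := Perm.sum_cycleType (y : Perm (Fin 8))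
  have hle : (y : Perm (Fin 8)).support.card ≤ 8 := by
    have := Finset.card_le_univ (y : Perm (Fin 8)).support
    simpa using this
  rw [hn, Multiset.sum_replicate, smul_eq_mul] at hs
  have hn0 : n = 0 := by omega
  rw [hn, hn0]
  rfl

theorem card_filter_eq {G : Type*} (i₁ i₂ : Fintype G) (p q : G → Prop) (d₁ : DecidablePred p) (d₂ : DecidablePred q)
    (h : ∀ g, p g ↔ q g) :
    (@Finset.filter G p d₁ (@Finset.univ G i₁)).card = (@Finset.filter G q d₂ (@Finset.univ G i₂)).card := by
  congr 1
  ext g
  simp [h]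

theorem index_gen {α : Type*} [Fintype α] [DecidableEq α] {n : ℕ} (h2 : 2 ≤ n) (hα : n + 2 ≤ Fintype.card α)
    (hodd : Odd n) {y : alternatingGroup α} (hy : (y : Perm α).cycleType = {n}) :
    (centralizer ({y} : Set (alternatingGroup α))).index = (n - 1).factorial * (Fintype.card α).choose n := by
  classical
  have h0 := Nat.cast_injective (R := ℂ) (Cfsg.Agent.Blocks.CliffordCentral.card_class_eq_index y)
  rw [← h0]
  have h := AlternatingGroup.card_of_cycleType_singleton (α := α) h2 (by omega)
  rw [if_pos hodd] at h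
  rw [← h]
  refine card_filter_eq _ _ _ _ _ _ fun g => ⟨fun hc => ?_, fun hc => ?_⟩
  · have h1 : IsConj (y : Perm α) (g : Perm α) := (alternatingGroup α).subtype.map_isConj hc
    rw [← Perm.isConj_iff_cycleType_eq.1 h1]
    exact hy
  · refine alternatingGroup.isConj_of (Perm.isConj_iff_cycleType_eq.2 (hy.trans hc.symm)) ?_
    rw [← Perm.sum_cycleType, hy]
    simpa using hα

theorem index_five {y : alternatingGroup (Fin 8)} (hy : orderOf y = 5) :
    (centralizer ({y} : Set (alternatingGroup (Fin 8)))).index = 1344 := by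
  rw [index_gen (n := 5) (by norm_num) (by rw [Fintype.card_fin]; norm_num) (by decide) (cycleType_of_order_five hy),
    Fintype.card_fin]
  rfl

/-- **`McL`** -/
theorem loc_McL {S : Type u} [Group S] [Finite S] (h : Cfsg.Spor.IsoMcL S) : Loc S := by
  classical
  obtain ⟨-, -, hcard, ⟨L⟩⟩ := TypeM.FactsMcL.facts h
  have hzc : centralizer ((zpowers L.t : Subgroup S) : Set S) = centralizer ({L.t} : Set S) := by
    ext g
    rw [mem_centralizer_singleton_iff, mem_centralizer_iff]
    constructor
    · intro hg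
      exact (hg _ (mem_zpowers _)).symm
    · rintro hg y ⟨k, rfl⟩
      exact ((show Commute g L.t from hg).zpow_right k).symm
  have hle : centralizer ((zpowers L.t : Subgroup S) : Set S) ≤ centralizer ({L.t} : Set S) := hzc.le
  let φ : centralizer ((zpowers L.t : Subgroup S) : Set S) →* alternatingGroup (Fin 8) :=
    (L.K.π.codRestrict (alternatingGroup (Fin 8)) L.K.mem_alternating).comp (Subgroup.inclusion hle)
  have hcV : Nat.card (zpowers L.t) = 2 := by rw [Nat.card_zpowers, L.orderOf_t]
  have hmem : ∀ v ∈ zpowers L.t, v ≠ 1 → v = L.t := by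
    rintro v ⟨k, rfl⟩ hv
    dsimp only at hv ⊢
    rcases Int.even_or_odd' k with ⟨m, rfl | rfl⟩
    · exfalso
      apply hv
      rw [zpow_mul, zpow_two, L.t_mul_t, one_zpow]
    · rw [zpow_add, zpow_mul, zpow_two, L.t_mul_t, one_zpow, one_mul, zpow_one]
  have hc1344 : ∀ y : alternatingGroup (Fin 8), orderOf y = 5 →
      Nat.card (centralizer ({y} : Set (alternatingGroup (Fin 8)))) = 15 := by
    intro y hy
    have h1 := Subgroup.card_mul_index (centralizer ({y} : Set (alternatingGroup (Fin 8))))
    rw [index_five hy, card_alt8] at h1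
    omega
  refine loc_of (V := zpowers L.t) (IsPGroup.of_card (n := 1) (by rw [hcV, pow_one])) ?_ ?_ ?_ φ ?_ ?_
    hasSplit_alt8 (by rw [card_alt8]; norm_num) (by rw [card_alt8]; norm_num) (j := 21) (by norm_num)
    (by norm_num) (fun y hy => ⟨index_five hy, by rw [hc1344 y hy]; norm_num, by rw [hc1344 y hy]; norm_num⟩) ?_
  · intro h0
    rw [h0, Subgroup.card_bot] at hcV
    omega
  · rw [hzc, zpowers_le, mem_centralizer_singleton_iff]
  · intro v hv hv1
    rw [hmem v hv hv1, hzc]
  · intro y
    obtain ⟨g, hg⟩ := L.K.exists_lift y.2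
    refine ⟨⟨(g : S), by rw [hzc]; exact g.2⟩, ?_⟩
    apply Subtype.ext
    exact hg
  · intro g hg
    have h1 : L.K.π ⟨(g : S), hle g.2⟩ = 1 := congrArg Subtype.val hg
    rcases (L.K.ker _).1 h1 with h2 | h2
    · have h3 := congrArg Subtype.val h2
      change (g : S) = 1 at h3
      rw [h3]
      exact one_mem _
    · have h3 := congrArg Subtype.val h2
      change (g : S) = (L.K.z : S) at h3
      rw [h3, L.hz]
      exact mem_zpowers _
  · rw [hcV, hcard]
    norm_num

end Cfsg.Agent.H52.FourMcL
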