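import Cfsg.Agent.H641.Gow.Real_m3
import Cfsg.Agent.Fischer.Fi24RepOrb_m3
import Cfsg.Agent.Fischer.Fi24Spider
import Cfsg.Agent.Fischer.Fi24Index_m3
import Cfsg.Agent.Prune
set_option linter.all false
prune_inst 0x7f00000000000000000000000000000000000000000000000000000000000000000000000000000000000000000000000000000000000000000000000000000000000000000000000000000000000000003fffffffffffffffffffffffffffbeffbdffffffff
open scoped Cfsg.Agent.FastGrp

-- part: H52/GowPairs
section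
/-!
# Actions on pairs of points (S4913)

`H` acts transitively on `U`, `l` is a central involution of `H` without fixed points on `U`, `H = F × ⟨l⟩`, and the
stabiliser of the pair `{p₀, l p₀}` has at most three orbits on `U`: `RatOdd F`.
-/

set_option autoImplicit false

namespace Cfsg.Agent.H52.GowPairs

open Cfsg Cfsg.Agent.H636.Gow MulAction

theorem ratOdd_pairs {F G : Type*} [Group F] [Finite F] [Group G] (rho : G →* Equiv.Perm ℕ) (φ : F →* G) (l : G)
    (H : Subgroup G) (hφ : ∀ f, φ f ∈ H) (hl : l ∈ H) (hll : l * l = 1) (hcen : ∀ h ∈ H, h * l = l * h)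
    (hcov : ∀ h ∈ H, ∃ f, h = φ f ∨ h = φ f * l) (U : Set ℕ) (p₀ : ℕ)
    (hU : {p : ℕ | ∃ h ∈ H, rho h p₀ = p} = U) (hne : rho l p₀ ≠ p₀) {n : ℕ} (hn : U.ncard = 4 * n) (hn0 : n ≠ 0)
    (q : Fin 3 → ℕ) (hq : ∀ i, q i ∈ U)
    (hK : ∀ p ∈ U, ∃ i, ∃ k ∈ H, (rho k p₀ = p₀ ∨ rho k p₀ = rho l p₀) ∧ rho k (q i) = p) : RatOdd F := by
  classical
  let P : ℕ → Set ℕ := fun p => {p, rho l p}
  have hlp : ∀ p, rho l (rho l p) = p := by
    intro p
    rw [← Equiv.Perm.mul_apply, ← map_mul, hll, map_one, Equiv.Perm.one_apply]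
  have hcom : ∀ h ∈ H, ∀ p, rho l (rho h p) = rho h (rho l p) := by
    intro h hh p
    rw [← Equiv.Perm.mul_apply, ← map_mul, ← hcen h hh, map_mul, Equiv.Perm.mul_apply]
  have hPim : ∀ h ∈ H, ∀ p, rho h '' P p = P (rho h p) := by
    intro h hh p
    change rho h '' {p, rho l p} = {rho h p, rho l (rho h p)}
    rw [Set.image_pair, hcom h hh]
  have hPl : ∀ p, P (rho l p) = P p := by
    intro p
    change ({rho l p, rho l (rho l p)} : Set ℕ) = {p, rho l p}
    rw [hlp, Set.pair_comm]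
  have hPf : ∀ k ∈ H, ∃ f, ∀ p, rho (φ f) '' P p = P (rho k p) := by
    intro k hk
    obtain ⟨f, rfl | rfl⟩ := hcov k hk
    · exact ⟨f, hPim _ hk⟩
    · refine ⟨f, fun p => ?_⟩
      rw [hPim _ (hφ f), map_mul, Equiv.Perm.mul_apply, ← hPim _ (hφ f), ← hPim _ (hφ f), hPl]
  have hUH : ∀ h ∈ H, ∀ p ∈ U, rho h p ∈ U := by
    intro h hh p hp
    rw [← hU] at hp ⊢
    obtain ⟨k, hk, rfl⟩ := hp
    exact ⟨h * k, H.mul_mem hh hk, by rw [map_mul, Equiv.Perm.mul_apply]⟩
  have hp₀ : p₀ ∈ U := by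
    rw [← hU]
    exact ⟨1, H.one_mem, by rw [map_one, Equiv.Perm.one_apply]⟩
  have hfree : ∀ p ∈ U, rho l p ≠ p := by
    intro p hp
    rw [← hU] at hp
    obtain ⟨h, hh, rfl⟩ := hp
    rw [hcom h hh]
    exact fun he => hne ((rho h).injective he)
  let X : Type := {s : Set ℕ // s ∈ P '' U}
  let _ : MulAction F X :=
    { smul := fun f s => ⟨rho (φ f) '' s.1, by
        obtain ⟨_, p, hp, rfl⟩ := s
        exact ⟨rho (φ f) p, hUH _ (hφ f) p hp, (hPim _ (hφ f) p).symm⟩⟩
      one_smul := fun s => Subtype.ext (by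
        change rho (φ 1) '' s.1 = s.1
        rw [map_one, map_one, Equiv.Perm.coe_one, Set.image_id])
      mul_smul := fun f g s => Subtype.ext (by
        change rho (φ (f * g)) '' s.1 = rho (φ f) '' (rho (φ g) '' s.1)
        rw [map_mul, map_mul, Equiv.Perm.coe_mul, Set.image_comp]) }
  have hsm : ∀ (f : F) (s : X), ((f • s : X) : Set ℕ) = rho (φ f) '' s.1 := fun _ _ => rfl
  have hUfin : U.Finite := Set.finite_of_ncard_ne_zero (by rw [hn]; omega)
  have hXfin : Finite X := (hUfin.image P).to_subtype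
  let mk : (p : ℕ) → p ∈ U → X := fun p hp => ⟨P p, p, hp, rfl⟩
  have htr : IsPretransitive F X := by
    refine ⟨?_⟩
    rintro ⟨_, p, hp, rfl⟩ ⟨_, p', hp', rfl⟩
    rw [← hU] at hp hp'
    obtain ⟨h, hh, rfl⟩ := hp
    obtain ⟨h', hh', rfl⟩ := hp'
    obtain ⟨f, hf⟩ := hPf (h' * h⁻¹) (H.mul_mem hh' (H.inv_mem hh))
    refine ⟨f, Subtype.ext ?_⟩
    rw [hsm]
    change rho (φ f) '' P (rho h p₀) = P (rho h' p₀)
    rw [hf, ← Equiv.Perm.mul_apply, ← map_mul, inv_mul_cancel_right]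
  refine ratOdd_of_cover X (mk p₀ hp₀) (stabilizer F (mk p₀ hp₀)) (fun g => mem_stabilizer_iff)
    (fun i => mk (q i) (hq i)) ?_ ?_
  · rintro ⟨_, p, hp, rfl⟩
    obtain ⟨i, k, hk, hk0, rfl⟩ := hK p hp
    obtain ⟨f, hf⟩ := hPf k hk
    refine ⟨i, ⟨f, ?_⟩, Subtype.ext (hf _)⟩
    rw [mem_stabilizer_iff]
    apply Subtype.ext
    rw [hsm]
    change rho (φ f) '' P p₀ = P p₀
    rw [hf]
    rcases hk0 with h | h
    · rw [h]
    · rw [h, hPl]
  · -- parity
    have h1 : Nat.card X = (P '' U).ncard := Nat.card_coe_set_eq _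
    have h2 : U.ncard = 2 * (P '' U).ncard := by
      obtain ⟨T, hT⟩ : ∃ T : Finset ℕ, T = hUfin.toFinset := ⟨_, rfl⟩
      have hTU : (T : Set ℕ) = U := by rw [hT]; exact hUfin.coe_toFinset
      have h3 : ∀ s ∈ T.image P, (T.filter fun p => P p = s).card = 2 := by
        intro s hs
        obtain ⟨p, hp, rfl⟩ := Finset.mem_image.1 hs
        have hpU : p ∈ U := by rw [← hTU]; exact hp
        have h4 : (T.filter fun p' => P p' = P p) = {p, rho l p} := by
          ext p'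
          rw [Finset.mem_filter, Finset.mem_insert, Finset.mem_singleton]
          constructor
          · rintro ⟨-, h⟩
            have h5 : p' ∈ P p := by rw [← h]; exact Set.mem_insert _ _
            exact h5
          · rintro (rfl | rfl)
            · exact ⟨hp, rfl⟩
            · refine ⟨?_, hPl p⟩
              have h6 : rho l p ∈ U := hUH l hl p hpU
              rw [← hTU] at h6
              exact h6
        rw [h4, Finset.card_pair (hfree p hpU).symm]
      have h7 := Finset.card_eq_sum_card_image P T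
      rw [Finset.sum_congr rfl h3, Finset.sum_const, smul_eq_mul] at h7
      have h8 : (P '' U).ncard = (T.image P).card := by
        rw [← Set.ncard_coe_finset, Finset.coe_image, hTU]
      rw [h8, ← hTU, Set.ncard_coe_finset, h7, mul_comm]
    rw [h1]
    exact ⟨n, by omega⟩

end Cfsg.Agent.H52.GowPairs
end

-- part: H52/GowFi23Chk
section
/-!
# The centraliser of an `S₃` in `Fi24` on 275264 points: kernel check (S4913, Fi23)

The points not commuting with `l`: the orbits of `K = ⟨b, …, j, l⟩` have lengths 2, 56862, 218400.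
-/

set_option autoImplicit false
set_option maxRecDepth 100000
set_option Elab.async false

namespace Cfsg.Agent.H52.GowFi23Chk

open Cfsg.Agent.Lib.PermNet Cfsg.Agent.Lib.PermNetOrbit Cfsg.Agent.Fischer.Fi24RepLib
  Cfsg.Agent.Fischer.Fi24RepDef Cfsg.Agent.Fischer.Fi24Rep Cfsg.Agent.Fischer.Fi24RepOrbData
  Cfsg.Agent.Fischer.Fi24RepOrb
open Cfsg.Spor (Fi24)
open Cfsg.Spor.Fi24 (Gen)

/-- all generators but `k`, `a`, `l` -/
def wK : List (List Gen) := [[.b], [.c], [.d], [.e], [.f], [.g], [.j], [.h], [.i]]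

def s1 : List (List Gen) := [[.l], [.b], [.c], [.e], [.g], [.h], [.f], [.d], [.j], [.b], [.i], [.e], [.g], [.d], [.h], [.c], 
  [.f], [.j], [.i], [.d], [.e], [.b], [.h], [.c], [.d], [.f], [.g], [.c], [.b], [.h], [.i], [.j], 
  [.d], [.e], [.f], [.g], [.d], [.e], [.c], [.d], [.c]]

def s2 : List (List Gen) := [[.l], [.c], [.e], [.g], [.h], [.f], [.d], [.j], [.i], [.e], [.g], [.d], [.c], [.h], [.b], [.d], 
  [.i], [.f], [.e], [.c], [.h], [.j], [.d], [.f], [.g], [.i], [.h], [.c], [.b], [.e], [.i], [.f], 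
  [.d], [.c], [.e], [.j], [.g], [.h], [.d], [.f], [.e], [.h], [.c], [.f], [.g], [.j], [.b], [.c]]

theorem sats : Nat.beq (Nat.lor (sat (nws s1) 1 (2 ^ 32768)) (Nat.lor (sat (nws s2) 1 (2 ^ 32833))
    (Nat.lor (2 ^ 307872) (2 ^ 307840)))) UR = true := by decide +kernel
theorem fixP : fixB (nws wK) 307872 = true := by decide +kernel
theorem fixQ : fixB (nws wK) 307840 = true := by decide +kernel
theorem tb1 : tb UR 32768 = true := by decide +kernel
theorem tb2 : tb UR 32833 = true := by decide +kernel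
theorem ptL : Nat.beq (ptWord (nw [.l] false) 307872) 307840 = true := by decide +kernel

end Cfsg.Agent.H52.GowFi23Chk
end

-- part: H52/GowFi23
section
/-!
# A rational-valued irreducible character of odd degree of Fi23 (rank three on 137632 points; S4913, task 931)
-/

set_option autoImplicit false
set_option maxRecDepth 100000

namespace Cfsg.Agent.H52.GowFi23

open Cfsg Cfsg.Agent.H636.Gow MulAction
open Cfsg.Agent.Lib.PermNet Cfsg.Agent.Lib.PermNetOrbit Cfsg.Agent.Fischer.Fi24RepLib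
  Cfsg.Agent.Fischer.Fi24RepDef Cfsg.Agent.Fischer.Fi24RepOrbData Cfsg.Agent.Fischer.Fi24RepOrb
open Cfsg.Agent.Fischer.Fi24Rep (rho rho_word word nws nws_ok)
open Cfsg.Agent.Fischer.Fi24Class (gen img emb emb_ne_k comm_l gen_sq exists_fi23_hom)
open Cfsg.Agent.H52.GowFi23Chk
open Cfsg.Spor (Fi24)
open Cfsg.Spor.Fi24 (Gen)

theorem word_gen (x : Gen) : word [x] = gen x := word_single x

/-- The centraliser of `l` and `k`. -/
def K₀ : Subgroup Fi24 := Subgroup.closure {g | ∃ w ∈ wK, word w = g}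

theorem rho_l : rho (gen .l) 307872 = 307840 := by
  rw [← word_gen, rho_word, ← ptWord_eq (wok _ _)]
  exact Nat.eq_of_beq_eq_true ptL

theorem rho_l' : rho (gen .l) 307840 = 307872 := by
  rw [← rho_l, ← Equiv.Perm.mul_apply, ← map_mul, gen_sq, map_one, Equiv.Perm.one_apply]

theorem K₀_le : K₀ ≤ H := by
  unfold K₀
  rw [Subgroup.closure_le]
  rintro _ ⟨w, hw, rfl⟩
  have h : ∀ w ∈ wK, ∃ x : Gen, x ≠ .k ∧ w = [x] := by
    intro w hw
    simp only [wK, List.mem_cons, List.not_mem_nil, or_false] at hw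
    rcases hw with rfl | rfl | rfl | rfl | rfl | rfl | rfl | rfl | rfl <;> exact ⟨_, by decide, rfl⟩
  obtain ⟨x, hx, rfl⟩ := h w hw
  rw [word_gen]
  exact mem_H_gen hx

theorem K₀_fix (k : Fi24) (hk : k ∈ K₀) : rho k 307872 = 307872 := by
  unfold K₀ at hk
  induction hk using Subgroup.closure_induction with
  | mem x hx =>
    obtain ⟨w, hw, rfl⟩ := hx
    rw [rho_word]
    exact fixB_spec (nws_ok wK) fixP _ (List.mem_map_of_mem hw)
  | one => rw [map_one]; rfl
  | mul x y _ _ hx hy => rw [map_mul, Equiv.Perm.mul_apply, hy, hx]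
  | inv x _ hx => rw [map_inv, Equiv.Perm.inv_eq_iff_eq, hx]

/-- `K = K₀⟨l⟩`. -/
def K₁ : Subgroup Fi24 := Subgroup.closure (insert (gen .l) {g | ∃ w ∈ wK, word w = g})

theorem l_mem : gen .l ∈ H := mem_H_gen (by decide)

theorem K₁_le : K₁ ≤ H := by
  unfold K₁
  rw [Subgroup.closure_le, Set.insert_subset_iff]
  refine ⟨l_mem, fun x hx => K₀_le (Subgroup.subset_closure hx)⟩

theorem K₁_fix (k : Fi24) (hk : k ∈ K₁) : (rho k 307872 = 307872 ∧ rho k 307840 = 307840) ∨
    (rho k 307872 = 307840 ∧ rho k 307840 = 307872) := by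
  unfold K₁ at hk
  induction hk using Subgroup.closure_induction with
  | mem x hx =>
    rcases hx with rfl | hx
    · exact Or.inr ⟨rho_l, rho_l'⟩
    · left
      refine ⟨K₀_fix x (Subgroup.subset_closure hx), ?_⟩
      obtain ⟨w, hw, rfl⟩ := hx
      rw [rho_word]
      exact fixB_spec (nws_ok wK) fixQ _ (List.mem_map_of_mem hw)
  | one => left; rw [map_one]; exact ⟨rfl, rfl⟩
  | mul x y _ _ hx hy =>
    rw [map_mul, Equiv.Perm.mul_apply, Equiv.Perm.mul_apply]
    rcases hx with hx | hx <;> rcases hy with hy | hy <;> rw [hy.1, hy.2, hx.1, hx.2] <;> tauto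
  | inv x _ hx =>
    rw [map_inv, Equiv.Perm.inv_eq_iff_eq, Equiv.Perm.inv_eq_iff_eq, Equiv.Perm.inv_eq_iff_eq,
      Equiv.Perm.inv_eq_iff_eq]
    rcases hx with hx | hx
    · exact Or.inl ⟨hx.1.symm, hx.2.symm⟩
    · exact Or.inr ⟨hx.2.symm, hx.1.symm⟩

theorem exists_word (s : List (List Gen)) (hs : ∀ w ∈ s, w = [.l] ∨ w ∈ wK) {p₀ p : ℕ}
    (h : (sat (nws s) 1 (2 ^ p₀)).testBit p = true) : ∃ k ∈ K₁, rho k p₀ = p := by
  obtain ⟨g, ⟨x, hx, rfl⟩, hg⟩ := sat_point_spec (K := K₁.map rho) (nws_ok s) (fun w hw => by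
    obtain ⟨l, hl, rfl⟩ := List.mem_map.1 hw
    rw [← rho_word]
    apply Subgroup.mem_map_of_mem
    apply Subgroup.subset_closure
    rcases hs l hl with h | h
    · left
      rw [h, word_gen]
    · exact Or.inr ⟨l, h, rfl⟩) 1 h
  exact ⟨x, hx, hg⟩

theorem s1_mem : ∀ w ∈ s1, w = [.l] ∨ w ∈ wK := by decide

theorem s2_mem : ∀ w ∈ s2, w = [.l] ∨ w ∈ wK := by decide

theorem or4 {a b c d U : ℕ} (h : Nat.beq (Nat.lor a (Nat.lor b (Nat.lor c d))) U = true) {p : ℕ}
    (hp : U.testBit p = true) :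
    a.testBit p = true ∨ b.testBit p = true ∨ c.testBit p = true ∨ d.testBit p = true := by
  have h1 : a ||| (b ||| (c ||| d)) = U := Nat.eq_of_beq_eq_true h
  rw [← h1, Nat.testBit_or, Nat.testBit_or, Nat.testBit_or, Bool.or_eq_true, Bool.or_eq_true,
    Bool.or_eq_true] at hp
  exact hp

theorem two_pow_testBit {n p : ℕ} (h : (2 ^ n).testBit p = true) : n = p := by
  rw [Nat.testBit_two_pow, decide_eq_true_eq] at h
  exact h

theorem cover (p : ℕ) (hp : UR.testBit p = true) :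
    ∃ i : Fin 3, ∃ k ∈ K₁, rho k ((![307872, 32768, 32833] : Fin 3 → ℕ) i) = p := by
  rcases or4 sats hp with h | h | h | h
  · exact ⟨1, exists_word s1 s1_mem h⟩
  · exact ⟨2, exists_word s2 s2_mem h⟩
  · refine ⟨0, 1, one_mem _, ?_⟩
    rw [map_one]; exact two_pow_testBit h
  · refine ⟨0, gen .l, Subgroup.subset_closure (Set.mem_insert _ _), ?_⟩
    exact rho_l.trans (two_pow_testBit h)

theorem comm_H (h : Fi24) (hh : h ∈ H) : h * gen .l = gen .l * h := by
  unfold H at hh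
  induction hh using Subgroup.closure_induction with
  | mem x hx =>
    rw [S1_eq] at hx
    obtain ⟨y, hy, rfl⟩ := hx
    exact comm_l y hy
  | one => rw [one_mul, mul_one]
  | mul x y _ _ hx hy => rw [mul_assoc, hy, ← mul_assoc, hx, mul_assoc]
  | inv x _ hx => exact (show Commute x (gen .l) from hx).inv_left

theorem hcov (φ : Spor.Fi23 →* Fi24) (hφ : ∀ x, φ (Cfsg.Agent.SporRec.Fi23Rel.gen x) = img x)
    (hφH : ∀ f, φ f ∈ H) (h : Fi24) (hh : h ∈ H) : ∃ f, h = φ f ∨ h = φ f * gen .l := by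
  unfold H at hh
  induction hh using Subgroup.closure_induction with
  | mem x hx =>
    rw [S1_eq] at hx
    obtain ⟨y, hy, rfl⟩ := hx
    have key : y = .l ∨ ∃ z, emb z = y := by
      cases y
      · exact Or.inl rfl
      · exact absurd rfl hy
      · exact Or.inr ⟨.a, rfl⟩
      · exact Or.inr ⟨.b, rfl⟩
      · exact Or.inr ⟨.c, rfl⟩
      · exact Or.inr ⟨.d, rfl⟩
      · exact Or.inr ⟨.e, rfl⟩
      · exact Or.inr ⟨.f, rfl⟩
      · exact Or.inr ⟨.g, rfl⟩
      · exact Or.inr ⟨.j, rfl⟩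
      · exact Or.inr ⟨.h, rfl⟩
      · exact Or.inr ⟨.i, rfl⟩
    rcases key with rfl | ⟨z, rfl⟩
    · exact ⟨1, Or.inr (by rw [map_one, one_mul]; rfl)⟩
    · refine ⟨Cfsg.Agent.SporRec.Fi23Rel.gen z, Or.inr ?_⟩
      rw [hφ]
      unfold Cfsg.Agent.Fischer.Fi24Class.img
      rw [mul_assoc, gen_sq, mul_one]
      rfl
  | one => exact ⟨1, Or.inl (map_one _).symm⟩
  | mul x y _ _ hx hy =>
    obtain ⟨f, hf⟩ := hx
    obtain ⟨g, hg⟩ := hy
    refine ⟨f * g, ?_⟩
    rw [map_mul]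
    have hc := comm_H _ (hφH g)
    rcases hf with rfl | rfl <;> rcases hg with rfl | rfl
    · exact Or.inl rfl
    · exact Or.inr (mul_assoc _ _ _).symm
    · right
      rw [mul_assoc, ← hc, mul_assoc]
    · left
      rw [mul_assoc, ← mul_assoc (gen .l), ← hc, mul_assoc (φ g), gen_sq, mul_one]
  | inv x _ hx =>
    obtain ⟨f, hf⟩ := hx
    refine ⟨f⁻¹, ?_⟩
    rw [map_inv]
    rcases hf with rfl | rfl
    · exact Or.inl rfl
    · right
      rw [mul_inv_rev, Cfsg.Agent.Fischer.Fi24Class.gen_inv]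
      have hc := comm_H _ (H.inv_mem (hφH f))
      exact hc.symm

theorem fi23 {K : Type*} [Group K] [Finite K] (h : Spor.IsoFi23 K) : RatOdd K := by
  obtain ⟨e⟩ := h
  have hfin : Finite Spor.Fi23 := Finite.of_equiv _ e.toEquiv
  apply RatOdd.of_equiv e
  obtain ⟨hidx, hst, -⟩ := SporRec.Fi24Index.index_and_suborbits
  obtain ⟨φ, hφ⟩ := exists_fi23_hom (Fischer.Fi24Spider.spider_rel hst)
  have hφH : ∀ f, φ f ∈ H := by
    have hr : φ.range ≤ H := by
      rw [MonoidHom.range_eq_map, ← Cfsg.Agent.SporRec.Fi23Rel.closure_gen, MonoidHom.map_closure,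
        Subgroup.closure_le]
      rintro _ ⟨_, ⟨x, rfl⟩, rfl⟩
      rw [SetLike.mem_coe, hφ]
      exact mul_mem (mem_H_gen (emb_ne_k x)) (mem_H_gen (by decide))
    exact fun f => hr ⟨f, rfl⟩
  refine GowPairs.ratOdd_pairs rho φ (gen .l) H hφH l_mem (gen_sq _) comm_H (hcov φ hφ hφH)
    {p | UR.testBit p = true} 307872 ?_ ?_ (n := 68816) ?_ (by norm_num) ![307872, 32768, 32833] ?_ ?_
  · rw [← orbR]
  · rw [rho_l]; norm_num
  · rw [ncard_R]
  · intro i
    fin_cases i
    · exact (tb_eq UR 307872).symm.trans tbR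
    · exact (tb_eq UR 32768).symm.trans tb1
    · exact (tb_eq UR 32833).symm.trans tb2
  · intro p hp
    obtain ⟨i, k, hk, h1⟩ := cover p hp
    refine ⟨i, k, K₁_le hk, ?_, h1⟩
    rw [rho_l]
    rcases K₁_fix k hk with h | h
    · exact Or.inl h.1
    · exact Or.inr h.1

end Cfsg.Agent.H52.GowFi23
end

private theorem dce_2f2edbee3f1a : _root_.True := by
  try have : _root_.True := by simp only [_root_.Cfsg.Agent.H52.GowFi23Chk.wK.eq_1]
  exact _root_.True.intro
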